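import Groth.Prelude.Def_GLin
import Groth.Agent.HopfLib.Comod
import Groth.Agent.HopfLib.GITPoints
import Groth.Agent.HopfQuot.LinRedCrit
import Mathlib.RingTheory.HopfAlgebra.MonoidAlgebra

/-!
# Torus actions as gradings
-/

set_option autoImplicit false
set_option linter.unusedSectionVars false

noncomputable section

open TensorProduct HopfRep
open Groth.Agent.HopfLib

universe u v w

namespace Groth.Agent.CohDer1.TorusGrading

variable {k : Type u} [Field k] {Λ : Type v} [AddCommGroup Λ] {R : Type w} [CommRing R] [Algebra k R]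
  [Comod k (AddMonoidAlgebra k Λ) R] [GLin.IsCoactAlg k (AddMonoidAlgebra k Λ) R]

variable (k Λ R) in
/-- The weight space. -/
abbrev eig (w : Λ) : Submodule k R := eigenspace k (AddMonoidAlgebra k Λ) R (AddMonoidAlgebra.single w 1)

theorem mem_eig {w : Λ} {f : R} :
    f ∈ eig k Λ R w ↔ Comod.coact (k := k) (A := AddMonoidAlgebra k Λ) f = f ⊗ₜ[k] AddMonoidAlgebra.single w 1 :=
  Iff.rfl

theorem mul_mem_eig {v w : Λ} {a b : R} (ha : a ∈ eig k Λ R v) (hb : b ∈ eig k Λ R w) :
    a * b ∈ eig k Λ R (v + w) := by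
  rw [mem_eig] at ha hb ⊢
  rw [GLin.IsCoactAlg.coact_mul, ha, hb, Algebra.TensorProduct.tmul_mul_tmul, AddMonoidAlgebra.single_mul_single,
    mul_one]

theorem mem_invariants_iff_eig {f : R} : f ∈ GLin.invariants k (AddMonoidAlgebra k Λ) R ↔ f ∈ eig k Λ R 0 := Iff.rfl

variable (k Λ) in
/-- The coordinate form of a weight. -/
def wt (w : Λ) : AddMonoidAlgebra k Λ →ₗ[k] k := (AddMonoidAlgebra.basis Λ k).coord w

theorem wt_single [DecidableEq Λ] (w v : Λ) :
    wt k Λ w (AddMonoidAlgebra.single v (1 : k)) = if v = w then 1 else 0 := by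
  rw [wt, Module.Basis.coord_apply, ← AddMonoidAlgebra.basis_apply, Module.Basis.repr_self, Finsupp.single_apply]

theorem hit_of_mem_eig {v : Λ} {f : R} (hf : f ∈ eig k Λ R v) (g : AddMonoidAlgebra k Λ →ₗ[k] k) :
    hit g f = g (AddMonoidAlgebra.single v 1) • f := by
  rw [hit_apply, hf, sliceR_tmul]

theorem hit_wt_mem (w : Λ) (f : R) : hit (wt k Λ w) f ∈ eig k Λ R w := by
  classical
  rw [mem_eig]
  refine eq_of_forall_sliceR_eq fun g => ?_
  rw [sliceR_tmul, ← hit_apply, hit_hit]
  have e : formMul g (wt k Λ w) = g (AddMonoidAlgebra.single w 1) • wt k Λ w := by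
    refine (AddMonoidAlgebra.basis Λ k).ext fun v => ?_
    rw [AddMonoidAlgebra.basis_apply]
    simp only [formMul, LinearMap.comp_apply, LinearMap.smul_apply, smul_eq_mul, AddMonoidAlgebra.comul_single,
      wt_single]
    simp only [CommSemiring.comul_apply, map_tmul, LinearMap.mul'_apply, AddMonoidAlgebra.lsingle_apply, wt_single]
    split_ifs with h
    · subst h; simp
    · simp
  rw [e, hit_smul]

theorem exists_sum (f : R) : ∃ s : Finset Λ, f = ∑ w ∈ s, hit (wt k Λ w) f := by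
  classical
  let e := TensorProduct.equivFinsuppOfBasisRight (M := R) (AddMonoidAlgebra.basis Λ k)
  let t := Comod.coact (k := k) (A := AddMonoidAlgebra k Λ) f
  refine ⟨(e t).support, ?_⟩
  have h : t = (e t).sum fun w m => m ⊗ₜ[k] AddMonoidAlgebra.basis Λ k w := by
    conv_lhs => rw [← e.symm_apply_apply t]
    exact TensorProduct.equivFinsuppOfBasisRight_symm_apply _ _
  conv_lhs => rw [← hit_counit (k := k) (A := AddMonoidAlgebra k Λ) f, hit_apply, show
    Comod.coact (k := k) (A := AddMonoidAlgebra k Λ) f = t from rfl, h, Finsupp.sum, map_sum]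
  refine Finset.sum_congr rfl fun w _ => ?_
  rw [sliceR_tmul, AddMonoidAlgebra.basis_apply, show Coalgebra.counit (R := k) (AddMonoidAlgebra.single w (1 : k)) = 1
    by simp, one_smul]
  exact sliceR_coord (AddMonoidAlgebra.basis Λ k) t w

theorem isLinearlyReductive : IsLinearlyReductive k (AddMonoidAlgebra k Λ) := by
  refine HopfQuot.isLinearlyReductive_of_isDiagonalizable ?_
  rw [IsDiagonalizable, _root_.eq_top_iff]
  intro x _
  rw [← (AddMonoidAlgebra.basis Λ k).linearCombination_repr x, Finsupp.linearCombination_apply]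
  refine Submodule.sum_mem _ fun m _ => Submodule.smul_mem _ _ (Submodule.subset_span ?_)
  rw [AddMonoidAlgebra.basis_apply]
  exact AddMonoidAlgebra.isGroupLikeElem_single_one m

variable (k Λ R) in
/-- The ideal of the fixed points. -/
def fixIdeal : Ideal R := Ideal.span {f : R | ∃ w : Λ, w ≠ 0 ∧ f ∈ eig k Λ R w}

variable (hpos : ∀ w : Λ, eig k Λ R w ≠ ⊥ → eig k Λ R (-w) ≠ ⊥ → w = 0)
include hpos

theorem wt_zero_of_mem {x : R} (hx : x ∈ fixIdeal k Λ R) : hit (wt k Λ 0) x = 0 := by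
  classical
  suffices ∀ a : R, hit (wt k Λ 0) (a * x) = 0 by simpa using this 1
  induction hx using Submodule.span_induction with
  | mem f hf =>
    intro a
    obtain ⟨w, hw, hf⟩ := hf
    obtain ⟨s, hs⟩ := exists_sum (k := k) (Λ := Λ) a
    rw [hs, Finset.sum_mul, map_sum]
    refine Finset.sum_eq_zero fun v _ => ?_
    rw [hit_of_mem_eig (mul_mem_eig (hit_wt_mem v a) hf), wt_single]
    split_ifs with h
    · by_contra hne
      rw [one_smul] at hne
      refine hw (hpos w (fun hb => hne ?_) (fun hb => hne ?_))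
      · have h2 : f ∈ (⊥ : Submodule k R) := hb ▸ hf
        rw [Submodule.mem_bot] at h2
        rw [h2, mul_zero]
      · have h1 := hit_wt_mem (k := k) v a
        have e : eig k Λ R v = ⊥ := (congrArg (eig k Λ R) (eq_neg_of_add_eq_zero_left h)).trans hb
        rw [e, Submodule.mem_bot] at h1
        rw [h1, zero_mul]
    · rw [zero_smul]
  | zero => simp
  | add p q _ _ hp hq => intro a; rw [mul_add, map_add, hp, hq, add_zero]
  | smul c p _ hp => intro a; rw [smul_eq_mul, ← mul_assoc]; exact hp _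

theorem bijective_invariants :
    Function.Bijective ((Ideal.Quotient.mkₐ k (fixIdeal k Λ R)).comp (GLin.invariants k (AddMonoidAlgebra k Λ) R).val) := by
  classical
  constructor
  · intro a b hab
    have h : (a : R) - b ∈ fixIdeal k Λ R := Ideal.Quotient.eq.1 hab
    have h0 := wt_zero_of_mem hpos h
    have hab0 : (a : R) - b ∈ eig k Λ R 0 := sub_mem a.2 b.2
    rw [hit_of_mem_eig hab0, wt_single, if_pos rfl, one_smul, sub_eq_zero] at h0
    exact Subtype.ext h0
  · intro q
    obtain ⟨f, rfl⟩ := Ideal.Quotient.mk_surjective q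
    refine ⟨⟨hit (wt k Λ 0) f, hit_wt_mem 0 f⟩, ?_⟩
    refine Ideal.Quotient.eq.2 ?_
    obtain ⟨s, hs⟩ := exists_sum (k := k) (Λ := Λ) f
    show hit (wt k Λ 0) f - f ∈ fixIdeal k Λ R
    obtain ⟨t, ht0, ht⟩ : ∃ t : Finset Λ, (0 : Λ) ∈ t ∧ f = ∑ w ∈ t, hit (wt k Λ w) f := by
      by_cases h0 : (0 : Λ) ∈ s
      · exact ⟨s, h0, hs⟩
      · refine ⟨insert 0 s, Finset.mem_insert_self _ _, ?_⟩
        have e : hit (wt k Λ 0) f = 0 := by
          rw [hs, map_sum]
          refine Finset.sum_eq_zero fun w hw => ?_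
          rw [hit_of_mem_eig (hit_wt_mem w f), wt_single, if_neg (fun h : w = 0 => h0 (h ▸ hw)), zero_smul]
        rw [Finset.sum_insert h0, e, zero_add]
        exact hs
    have hd : f - hit (wt k Λ 0) f = ∑ w ∈ t.erase 0, hit (wt k Λ w) f := by
      conv_lhs => rw [show f - hit (wt k Λ 0) f = (∑ w ∈ t, hit (wt k Λ w) f) - hit (wt k Λ 0) f by rw [← ht]]
      rw [← Finset.add_sum_erase t _ ht0, add_sub_cancel_left]
    rw [← neg_sub, hd]
    exact Submodule.neg_mem _ (Submodule.sum_mem _ fun w hw =>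
      Ideal.subset_span ⟨w, (Finset.mem_erase.1 hw).1, hit_wt_mem w f⟩)

theorem isClosedOrbit_iff_isFixedPt [IsAlgClosed k] [Algebra.FiniteType k R]
    [Algebra.FiniteType k (AddMonoidAlgebra k Λ)] (x : R →ₐ[k] k) :
    GLin.IsClosedOrbit k (AddMonoidAlgebra k Λ) x ↔ GLin.IsFixedPt k (AddMonoidAlgebra k Λ) x := by
  have hfix_closed : ∀ z : R →ₐ[k] k, GLin.IsFixedPt k (AddMonoidAlgebra k Λ) z →
      IsClosedPtOrbit k (AddMonoidAlgebra k Λ) z := by
    intro z hz y hy
    have hzy : y = z := (algHom_eq_of_ker_le fun f hf => hy (by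
      rw [RingHom.mem_ker, hz, AlgHom.comp_apply, (RingHom.mem_ker.1 hf), map_zero])).symm
    refine ⟨Bialgebra.counitAlgHom k _, ?_⟩
    rw [hzy]
    exact AlgHom.ext fun f => (counit_orbitHom (A := AddMonoidAlgebra k Λ) z f).symm
  refine ⟨fun hx' => ?_, fun hx => ?_⟩
  swap
  · let q : PrimeSpectrum R := ⟨RingHom.ker x, RingHom.ker_isPrime x⟩
    have key : ∀ P : PrimeSpectrum (AddMonoidAlgebra k Λ),
        PrimeSpectrum.comap (GLin.orbitHom k (AddMonoidAlgebra k Λ) x).toRingHom P = q := fun P => by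
      refine PrimeSpectrum.ext (Ideal.ext fun f => ?_)
      show GLin.orbitHom k (AddMonoidAlgebra k Λ) x f ∈ P.asIdeal ↔ x f = 0
      rw [hx, AlgHom.comp_apply, Algebra.ofId_apply]
      refine ⟨fun h => by_contra fun hne => P.2.ne_top (P.asIdeal.eq_top_of_isUnit_mem h
        ((IsUnit.mk0 _ hne).map (algebraMap k (AddMonoidAlgebra k Λ)))), fun h => by rw [h, map_zero]; exact zero_mem _⟩
    have hrange : Set.range (PrimeSpectrum.comap (GLin.orbitHom k (AddMonoidAlgebra k Λ) x).toRingHom) = {q} :=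
      Set.eq_singleton_iff_nonempty_unique_mem.2 ⟨Set.range_nonempty _, by rintro _ ⟨P, rfl⟩; exact key P⟩
    rw [GLin.IsClosedOrbit, hrange, PrimeSpectrum.isClosed_singleton_iff_isMaximal]
    exact RingHom.ker_isMaximal_of_surjective x fun c => ⟨algebraMap k R c, x.commutes c⟩
  have hx := isClosedPtOrbit_of_isClosedOrbit hx'
  let e := AlgEquiv.ofBijective _ (bijective_invariants hpos)
  let x₀ : R →ₐ[k] k := ((x.comp (GLin.invariants k (AddMonoidAlgebra k Λ) R).val).comp e.symm.toAlgHom).comp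
    (Ideal.Quotient.mkₐ k (fixIdeal k Λ R))
  have hx0 : ∀ c : GLin.invariants k (AddMonoidAlgebra k Λ) R, x₀ c = x c := fun c => by
    show x (e.symm (e c) : R) = x c
    rw [e.symm_apply_apply]
  have hx0' : ∀ (w : Λ), w ≠ 0 → ∀ f ∈ eig k Λ R w, x₀ f = 0 := fun w hw f hf => by
    show x (e.symm (Ideal.Quotient.mk _ f) : R) = 0
    rw [Ideal.Quotient.eq_zero_iff_mem.2 (show f ∈ fixIdeal k Λ R from Ideal.subset_span ⟨w, hw, hf⟩), map_zero]
    exact map_zero x
  have hfixed : GLin.IsFixedPt k (AddMonoidAlgebra k Λ) x₀ := AlgHom.ext fun f => by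
    classical
    obtain ⟨s, hs⟩ := exists_sum (k := k) (Λ := Λ) f
    rw [hs, map_sum, map_sum]
    refine Finset.sum_congr rfl fun w _ => ?_
    have hw := hit_wt_mem (k := k) w f
    rw [orbitHom_eq_cf, cf_apply, hw, sliceL_tmul, AlgHom.toLinearMap_apply]
    show x₀ (hit (wt k Λ w) f) • AddMonoidAlgebra.single w 1 = algebraMap k _ (x₀ (hit (wt k Λ w) f))
    by_cases h0 : w = 0
    · subst h0
      rw [Algebra.algebraMap_eq_smul_one]
      rfl
    · rw [hx0' w h0 _ hw, zero_smul, map_zero]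
  obtain ⟨g, hg⟩ := IsClosedPtOrbit.exists_eq_actPt isLinearlyReductive (hfix_closed x₀ hfixed) hx
    (AlgHom.ext fun c => hx0 c)
  rw [hg]
  have : GLin.actPt k g x₀ = x₀ := by
    rw [GLin.actPt, hfixed, ← AlgHom.comp_assoc]
    exact AlgHom.ext fun f => g.commutes _
  rw [this]
  exact hfixed

end Groth.Agent.CohDer1.TorusGrading
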